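import Mathlib.Tactic
import Cfsg.Agent.Lib.KnownC.FiTwentyThree.Data

/-!
# The 128 matrices over F₂ and their elementary abelian subgroups
-/

set_option autoImplicit false
set_option maxRecDepth 100000

namespace CfsgLib.KnownC.Fi23Two

/-- Apply a matrix, given by the images of the eleven unit vectors. -/
def ap (m : List ℕ) (v : ℕ) : ℕ :=
  ((List.range 11).map fun i => if v.testBit i then m.getD i 0 else 0).foldr (· ^^^ ·) 0

/-- Product of matrices. -/
def mm (a b : List ℕ) : List ℕ :=
  (List.range 11).map fun i => ap a (b.getD i 0)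

/-- The identity matrix. -/
def one : List ℕ :=
  (List.range 11).map fun i => 2 ^ i

/-- Matrix number `u`. -/
def ms (u : ℕ) : List ℕ := msData.getD u []

/-- The bits of `w`. -/
def bits (w : ℕ) : List ℕ := (List.range 7).filter fun i => w.testBit i

/-- Number of a product. -/
def op (a b : ℕ) : ℕ := msData.idxOf (mm (ms a) (ms b))

/-- Fixed vectors of a list of matrices. -/
def fixList (U : List ℕ) : List ℕ :=
  (List.range 2048).filter fun v => U.all fun u => Nat.beq (ap (ms u) v) v

theorem mGen_lt : ∀ k < 7, ∀ i < 11, (mGen.getD k []).getD i 0 < 2048 := by decide +kernel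

theorem ms_eq : ∀ w < 128, ms w = (bits w).foldl (fun M k => mm M (mGen.getD k [])) one := by
  decide +kernel

theorem ms_bound : ∀ w < 128, ∀ i < 11, (ms w).getD i 0 < 2048 := by decide +kernel

theorem msData_nodup : msData.Nodup := by decide +kernel

theorem ms_length : ∀ w < 128, (ms w).length = 11 := by decide +kernel

theorem ms_zero : ms 0 = one := by decide +kernel

theorem invs_complete : ∀ u < 128, mm (ms u) (ms u) = one → u = 0 ∨ u ∈ invs := by decide +kernel

theorem fix_single : ∀ u ∈ invs, (fixList [u]).length ≤ 128 := by decide +kernel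

theorem fix_four : ∀ U ∈ levels.getD 4 [], (fixList U).length ≤ 64 := by decide +kernel

theorem level_zero : levels.getD 0 [] = [[0]] := by decide +kernel

theorem level_five : levels.getD 5 [] = [] := by decide +kernel

theorem level_card : ∀ k < 5, ∀ U ∈ levels.getD k [], U.Nodup ∧ U.length = 2 ^ k := by decide +kernel

theorem level_step : ∀ k < 5, ∀ U ∈ levels.getD k [], ∀ g ∈ invs,
    g ∈ U ∨ (∃ s ∈ U, mm (ms g) (ms s) ≠ mm (ms s) (ms g)) ∨
      ∃ V ∈ levels.getD (k + 1) [], ∀ v ∈ V, v ∈ U ∨ ∃ s ∈ U, op g s = v := by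
  decide +kernel

/-- A set of matrices that looks like an elementary abelian group. -/
structure Elem (W : Finset ℕ) : Prop where
  lt : ∀ u ∈ W, u < 128
  zero : 0 ∈ W
  comm : ∀ u ∈ W, ∀ v ∈ W, mm (ms u) (ms v) = mm (ms v) (ms u)
  invol : ∀ u ∈ W, mm (ms u) (ms u) = one
  closed : ∀ u ∈ W, ∀ v ∈ W, op u v ∈ W

/-- The subgroups are among the listed ones. -/
theorem Elem.exists_level {W : Finset ℕ} (hW : Elem W) :
    ∃ k < 5, ∃ U ∈ levels.getD k [], U.toFinset = W := by
  by_contra hne
  push_neg at hne
  have key : ∀ k ≤ 5, ∃ U ∈ levels.getD k [], U.toFinset ⊆ W := by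
    intro k
    induction k with
    | zero =>
      intro _
      refine ⟨[0], ?_, ?_⟩
      · rw [level_zero]; simp
      · simpa using hW.zero
    | succ k ih =>
      intro hk
      obtain ⟨U, hU, hsub⟩ := ih (by omega)
      have hne' : U.toFinset ≠ W := hne k (by omega) U hU
      obtain ⟨g, hg, hgU⟩ : ∃ g ∈ W, g ∉ U.toFinset := by
        by_contra h
        push_neg at h
        exact hne' (Finset.Subset.antisymm hsub h)
      have hzero : (0 : ℕ) ∈ U ∨ g ≠ 0 := by
        by_cases h : g = 0
        · exfalso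
          subst h
          have hl := level_card k (by omega) U hU
          have : ∀ k < 5, ∀ U ∈ levels.getD k [], (0 : ℕ) ∈ U := by decide +kernel
          exact hgU (List.mem_toFinset.2 (this k (by omega) U hU))
        · exact Or.inr h
      have hg0 : g ≠ 0 := by
        rcases hzero with h | h
        · rintro rfl; exact hgU (List.mem_toFinset.2 h)
        · exact h
      have hginv := (invs_complete g (hW.lt g hg) (hW.invol g hg)).resolve_left hg0
      rcases level_step k (by omega) U hU g hginv with h | ⟨s, hs, h⟩ | ⟨V, hV, h⟩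
      · exact absurd (List.mem_toFinset.2 h) hgU
      · exact absurd (hW.comm g hg s (hsub (List.mem_toFinset.2 hs))) h
      · refine ⟨V, hV, fun v hv => ?_⟩
        rcases h v (List.mem_toFinset.1 hv) with h1 | ⟨s, hs, rfl⟩
        · exact hsub (List.mem_toFinset.2 h1)
        · exact hW.closed g hg s (hsub (List.mem_toFinset.2 hs))
  obtain ⟨U, hU, -⟩ := key 5 le_rfl
  rw [level_five] at hU
  simp at hU

/-- The order of an elementary abelian subgroup times its fixed points. -/
theorem Elem.bound {W : Finset ℕ} (hW : Elem W) (hne : W ≠ {0}) (F : Finset ℕ)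
    (hF : ∀ v ∈ F, v < 2048 ∧ ∀ u ∈ W, ap (ms u) v = v) : W.card * F.card ≤ 1024 := by
  obtain ⟨k, hk, U, hU, rfl⟩ := hW.exists_level
  obtain ⟨hnd, hlen⟩ := level_card k hk U hU
  have hc : U.toFinset.card = 2 ^ k := by rw [List.toFinset_card_of_nodup hnd, hlen]
  have hsub : ∀ L : List ℕ, (∀ u ∈ L, u ∈ U) → F.card ≤ (fixList L).length := by
    intro L hL
    refine (Finset.card_le_card ?_).trans (List.toFinset_card_le _)
    intro v hv
    rw [List.mem_toFinset, fixList, List.mem_filter, List.mem_range]
    refine ⟨(hF v hv).1, List.all_eq_true.2 fun u hu => ?_⟩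
    rw [(hF v hv).2 u (List.mem_toFinset.2 (hL u hu))]
    exact Nat.beq_refl v
  rcases eq_or_ne k 4 with rfl | hk4
  · have := (hsub U fun u hu => hu).trans (fix_four U hU)
    rw [hc]
    calc 2 ^ 4 * F.card ≤ 2 ^ 4 * 64 := Nat.mul_le_mul_left _ this
      _ = 1024 := by norm_num
  · obtain ⟨g, hg, hg0⟩ : ∃ g ∈ U.toFinset, g ≠ 0 := by
      by_contra h
      push_neg at h
      exact hne (Finset.eq_singleton_iff_unique_mem.2 ⟨hW.zero, h⟩)
    have hginv := (invs_complete g (hW.lt g hg) (hW.invol g hg)).resolve_left hg0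
    have := (hsub [g] (by simpa using hg)).trans (fix_single g hginv)
    rw [hc]
    have h8 : 2 ^ k ≤ 2 ^ 3 := Nat.pow_le_pow_right (by norm_num) (by omega)
    calc 2 ^ k * F.card ≤ 2 ^ 3 * 128 := Nat.mul_le_mul h8 this
      _ = 1024 := by norm_num

end CfsgLib.KnownC.Fi23Two
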