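import Cfsg.Agent.Lib.KnownC.FiTwentyThree.Points
import Cfsg.Agent.Lib.KnownC.FiTwentyThree.Mat

/-!
# Word checks for the 2^11 and the Sylow 2-subgroup of its normaliser in Fi23
-/

set_option autoImplicit false
set_option maxRecDepth 100000

namespace CfsgLib.KnownC.Fi23Two

open CfsgLib.InvChar CfsgLib.InvChar.Coset CfsgLib.InvChar.SporFi23 Cfsg.Spor

/-- The word of basis transposition `i`. -/
def tb (i : ℕ) : List ℕ := wT (clPaths.getD (bIdx.getD i 0) [])

/-- The point of basis transposition `i`. -/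
def tbPt (i : ℕ) : ℕ := clPts.getD (bIdx.getD i 0) 0

/-- The word of a vector. -/
def eWord (v : ℕ) : List ℕ :=
  ((List.range 11).map fun i => if v.testBit i then tb i else []).flatten

/-- The word of an element of the Sylow subgroup modulo the 2^11. -/
def xw (w : ℕ) : List ℕ := ((bits w).map fun k => xWords.getD k []).flatten

/-- Word for the relation number `(k, j)`, to be the identity. -/
def relWordOf (k j : ℕ) : List ℕ :=
  (if j = k then xWords.getD k [] ++ xWords.getD k []
    else xWords.getD k [] ++ xWords.getD j [] ++ (xWords.getD k []).reverse) ++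
    (xw ((relData.getD k []).getD j (0, 0)).2).reverse ++
    (eWord ((relData.getD k []).getD j (0, 0)).1).reverse

theorem path_lt : ∀ i < 23, ∀ y ∈ clPaths.getD i [], y < 10 := by decide +kernel

theorem x_lt : ∀ k < 7, ∀ y ∈ xWords.getD k [], y < 10 := by decide +kernel

theorem bIdx_lt : ∀ i < 11, bIdx.getD i 0 < 23 := by decide +kernel

theorem clPts_ok : ∀ i < 23, clPts.getD i 0 < F23.table.n ∧
    F23.table.follow (clPaths.getD i []) (F23.table.follow tw 0) = clPts.getD i 0 := by decide +kernel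

theorem tb_comm : ∀ i < 11, ∀ j < 11, F23.table.follow (tb i).reverse (tbPt j) = tbPt j := by
  decide +kernel

theorem clVec_ok : ∀ i < 23, clVec.getD i 0 < 2048 ∧
    chkId (wT (clPaths.getD i []) ++ (eWord (clVec.getD i 0)).reverse) = true := by decide +kernel

theorem x_norm : ∀ k < 7, ∀ i < 11,
    clPts.idxOf (F23.table.follow (xWords.getD k []).reverse (tbPt i)) < 23 ∧
    clVec.getD (clPts.idxOf (F23.table.follow (xWords.getD k []).reverse (tbPt i))) 0 =
      (mGen.getD k []).getD i 0 := by decide +kernel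

theorem rel_data_lt : ∀ k < 7, ∀ j ≤ k, ((relData.getD k []).getD j (0, 0)).1 < 2048 ∧
    ((relData.getD k []).getD j (0, 0)).2 < 2 ^ k := by decide +kernel

theorem rel0 : ∀ j ≤ 0, chkId (relWordOf 0 j) = true := by decide +kernel
theorem rel1 : ∀ j ≤ 1, chkId (relWordOf 1 j) = true := by decide +kernel
theorem rel2 : ∀ j ≤ 2, chkId (relWordOf 2 j) = true := by decide +kernel
theorem rel3 : ∀ j ≤ 3, chkId (relWordOf 3 j) = true := by decide +kernel
theorem rel4 : ∀ j ≤ 4, chkId (relWordOf 4 j) = true := by decide +kernel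
theorem rel5 : ∀ j ≤ 5, chkId (relWordOf 5 j) = true := by decide +kernel
theorem rel6 : ∀ j ≤ 6, chkId (relWordOf 6 j) = true := by decide +kernel

theorem rel_ok (k : ℕ) (hk : k < 7) : ∀ j ≤ k, chkId (relWordOf k j) = true := by
  interval_cases k
  exacts [rel0, rel1, rel2, rel3, rel4, rel5, rel6]

theorem bits_add : ∀ k < 7, ∀ w < 128, w < 2 ^ k → bits (w + 2 ^ k) = bits w ++ [k] := by
  decide +kernel

theorem bits_pow : ∀ k < 7, bits (2 ^ k) = [k] := by decide +kernel

/-- Point `a` of orbit `o`. -/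
def oPt (o a : ℕ) : ℕ := (orbPts.getD o []).getD a 0

/-- Translation by basis transposition `i` on orbit `o`. -/
def oC (o i : ℕ) : ℕ := (orbVec.getD o []).getD i 0

/-- Translation by a vector on orbit `o`. -/
def oV (o v : ℕ) : ℕ :=
  ((List.range 11).map fun i => if v.testBit i then oC o i else 0).foldr (· ^^^ ·) 0

theorem oC_lt : ∀ o < 3, ∀ i < 11, oC o i < 32 := by decide +kernel

theorem oPt_lt : ∀ o < 3, ∀ a < 32, oPt o a < F23.table.n ∧ (oPt o a = oPt o 0 → a = 0) := by
  decide +kernel

theorem orbit_step0 : ∀ i < 11, ∀ a < 32, F23.table.follow (tb i).reverse (oPt 0 a) = oPt 0 (a ^^^ oC 0 i) := by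
  decide +kernel

theorem orbit_step1 : ∀ i < 11, ∀ a < 32, F23.table.follow (tb i).reverse (oPt 1 a) = oPt 1 (a ^^^ oC 1 i) := by
  decide +kernel

theorem orbit_step2 : ∀ i < 11, ∀ a < 32, F23.table.follow (tb i).reverse (oPt 2 a) = oPt 2 (a ^^^ oC 2 i) := by
  decide +kernel

theorem oV_injective : ∀ v < 2048, oV 0 v = 0 → oV 1 v = 0 → oV 2 v = 0 → v = 0 := by decide +kernel

end CfsgLib.KnownC.Fi23Two
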