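import Cfsg.Agent.Lib.KnownC.FiTwentyThree.Cert
import Cfsg.Prelude.Def_Transfer

/-!
# A Sylow 2-subgroup of Fi23 has a unique elementary abelian subgroup of order 2^11, and none larger
-/

set_option autoImplicit false
set_option maxRecDepth 100000

namespace CfsgLib.KnownC.Fi23Two

open CfsgLib.InvChar CfsgLib.InvChar.Coset CfsgLib.InvChar.SporFi23 Cfsg.Spor

/-- Basis transposition `i`. -/
noncomputable def tt (i : ℕ) : Fi23 := wprod gen (tb i)

/-- The element of a vector. -/
noncomputable def φ (v : ℕ) : Fi23 := wprod gen (eWord v)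

/-- Generator `k` of the Sylow subgroup modulo the 2^11. -/
noncomputable def xx (k : ℕ) : Fi23 := wprod gen (xWords.getD k [])

theorem wprod_flatten (L : List (List ℕ)) :
    (wprod gen L.flatten : Fi23) = (L.map (wprod gen)).prod := by
  induction L with
  | nil => simp [wprod]
  | cons a L ih => rw [List.flatten_cons, wprod_append, ih, List.map_cons, List.prod_cons]

theorem φ_eq (v : ℕ) :
    φ v = ((List.range 11).map fun i => if v.testBit i then tt i else 1).prod := by
  rw [φ, eWord, wprod_flatten, List.map_map]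
  congr 1
  refine List.map_congr_left fun i _ => ?_
  simp only [Function.comp, tt]
  split <;> simp [wprod]

theorem path_lt' (i : ℕ) (hi : i < 11) : ∀ y ∈ tb i, y < 10 :=
  wT_lt (path_lt _ (bIdx_lt i hi))

theorem eWord_lt (v : ℕ) : ∀ y ∈ eWord v, y < 10 := by
  intro y hy
  simp only [eWord, List.mem_flatten, List.mem_map, List.mem_range] at hy
  obtain ⟨L, ⟨i, hi, rfl⟩, hy⟩ := hy
  split at hy
  · exact path_lt' i hi y hy
  · simp at hy

theorem T_cl (i : ℕ) (hi : i < 23) :
    T (pt (clPts.getD i 0)) = wprod gen (wT (clPaths.getD i [])) := by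
  rw [← (clPts_ok i hi).2]
  exact T_path _ (path_lt i hi)

theorem tt_eq (i : ℕ) (hi : i < 11) : tt i = T (pt (tbPt i)) := (T_cl _ (bIdx_lt i hi)).symm

theorem tt_comm (i : ℕ) (hi : i < 11) (j : ℕ) (hj : j < 11) : Commute (tt i) (tt j) := by
  rw [tt_eq i hi, tt_eq j hj]
  refine T_commute ?_
  rw [← tt_eq i hi]
  refine Fin.ext ?_
  have hlt : tbPt j < F23.table.n := (clPts_ok _ (bIdx_lt j hj)).1
  rw [tt, rep_wprod_reverse _ (path_lt' i hi), val_pt hlt]
  exact tb_comm i hi j hj

theorem prod_xor {G : Type*} [Group G] (s : ℕ → G) (hsq : ∀ i, s i * s i = 1) :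
    ∀ l : List ℕ, (∀ i ∈ l, ∀ j ∈ l, Commute (s i) (s j)) → ∀ a b : ℕ,
      (l.map fun i => if (a ^^^ b).testBit i then s i else 1).prod =
        (l.map fun i => if a.testBit i then s i else 1).prod *
          (l.map fun i => if b.testBit i then s i else 1).prod := by
  intro l
  induction l with
  | nil => simp
  | cons i l ih =>
    intro hc a b
    simp only [List.map_cons, List.prod_cons]
    rw [ih (fun x hx y hy => hc x (List.mem_cons_of_mem _ hx) y (List.mem_cons_of_mem _ hy)) a b]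
    have hA : Commute (if b.testBit i then s i else 1)
        (l.map fun j => if a.testBit j then s j else 1).prod := by
      refine Commute.list_prod_right _ _ fun y hy => ?_
      obtain ⟨j, hj, rfl⟩ := List.mem_map.1 hy
      split <;> split
      all_goals first
        | exact hc i List.mem_cons_self j (List.mem_cons_of_mem _ hj)
        | exact Commute.one_left _
        | exact Commute.one_right _
    have hbit : (if (a ^^^ b).testBit i then s i else 1) =
        (if a.testBit i then s i else 1) * (if b.testBit i then s i else 1) := by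
      rw [Nat.testBit_xor]
      cases a.testBit i <;> cases b.testBit i <;> simp [hsq]
    rw [hbit]
    calc _ = (if a.testBit i then s i else 1) * ((if b.testBit i then s i else 1) *
          (l.map fun j => if a.testBit j then s j else 1).prod) *
          (l.map fun j => if b.testBit j then s j else 1).prod := by simp only [mul_assoc]
      _ = _ := by rw [hA.eq]; simp only [mul_assoc]

theorem φ_zero : φ 0 = 1 := by rw [φ_eq]; simp

theorem φ_xor (a b : ℕ) : φ (a ^^^ b) = φ a * φ b := by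
  rw [φ_eq, φ_eq, φ_eq]
  refine prod_xor tt (fun i => ?_) _
    (fun i hi j hj => tt_comm i (List.mem_range.1 hi) j (List.mem_range.1 hj)) a b
  rw [tt, tb, wT]
  rw [wprod_append, wprod_reverse gen gen_mul_self]
  have hc : ∀ x : Fi23, gen 1 * (gen 1 * x) = x := fun x => by rw [← mul_assoc, gen_mul_self, one_mul]
  simp [wprod, mul_assoc, hc]

theorem φ_mul_self (a : ℕ) : φ a * φ a = 1 := by rw [← φ_xor, Nat.xor_self, φ_zero]

theorem φ_inv (a : ℕ) : (φ a)⁻¹ = φ a := inv_eq_of_mul_eq_one_right (φ_mul_self a)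

theorem φ_prod (l : List ℕ) : φ (l.foldr (· ^^^ ·) 0) = (l.map φ).prod := by
  induction l with
  | nil => simpa using φ_zero
  | cons a l ih => simp only [List.foldr_cons, List.map_cons, List.prod_cons, φ_xor, ih]

theorem foldr_lt (n : ℕ) : ∀ l : List ℕ, (∀ x ∈ l, x < 2 ^ n) → l.foldr (· ^^^ ·) 0 < 2 ^ n := by
  intro l
  induction l with
  | nil => intro _; simp
  | cons a l ih =>
    intro h
    exact Nat.xor_lt_two_pow (h a List.mem_cons_self) (ih fun x hx => h x (List.mem_cons_of_mem _ hx))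

/-- `g` conjugates the 2^11 by the matrix `m`. -/
def Act (g : Fi23) (m : List ℕ) : Prop := ∀ i < 11, g * tt i * g⁻¹ = φ (m.getD i 0)

theorem Act.conj {g : Fi23} {m : List ℕ} (h : Act g m) (v : ℕ) : g * φ v * g⁻¹ = φ (ap m v) := by
  rw [ap, φ_prod, φ_eq, List.map_map]
  rw [show g * ((List.range 11).map fun i => if v.testBit i then tt i else 1).prod * g⁻¹ =
    MulAut.conj g ((List.range 11).map fun i => if v.testBit i then tt i else 1).prod from rfl,
    map_list_prod, List.map_map]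
  congr 1
  refine List.map_congr_left fun i hi => ?_
  simp only [Function.comp]
  split
  · exact h i (List.mem_range.1 hi)
  · rw [map_one, φ_zero]

theorem getD_map_range (f : ℕ → ℕ) {n i : ℕ} (hi : i < n) : ((List.range n).map f).getD i 0 = f i := by
  rw [List.getD_eq_getElem _ _ (by simpa using hi)]; simp

theorem Act.mul {g h : Fi23} {m n : List ℕ} (hg : Act g m) (hh : Act h n) : Act (g * h) (mm m n) := by
  intro i hi
  rw [mm, getD_map_range _ hi, ← hg.conj, ← hh i hi]
  simp [mul_assoc]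

theorem eWord_two_pow : ∀ i < 11, eWord (2 ^ i) = tb i := by decide +kernel

theorem φ_two_pow (i : ℕ) (hi : i < 11) : φ (2 ^ i) = tt i := by
  rw [φ, eWord_two_pow i hi, tt]

theorem act_one : Act 1 one := by
  intro i hi
  rw [one, getD_map_range _ hi, φ_two_pow i hi]; simp

theorem act_φ (v : ℕ) : Act (φ v) one := by
  intro i hi
  rw [one, getD_map_range _ hi, φ_two_pow i hi, ← φ_two_pow i hi, ← φ_xor, Nat.xor_comm, φ_xor,
    mul_inv_cancel_right]

/-- Translation of an orbit. -/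
theorem rep_φ (o : ℕ) (ho : o < 3) (v : ℕ) (a : ℕ) (ha : a < 32) :
    (rep (φ v) (pt (oPt o a)) : ℕ) = oPt o (a ^^^ oV o v) := by
  have step : ∀ i < 11, ∀ a < 32, rep (tt i) (pt (oPt o a)) = pt (oPt o (a ^^^ oC o i)) := by
    intro i hi a ha
    refine Fin.ext ?_
    have hx : a ^^^ oC o i < 32 := Nat.xor_lt_two_pow (n := 5) ha (oC_lt o ho i hi)
    rw [tt, rep_wprod_reverse _ (path_lt' i hi), val_pt (oPt_lt o ho a ha).1,
      val_pt (oPt_lt o ho _ hx).1]
    interval_cases o
    exacts [orbit_step0 i hi a ha, orbit_step1 i hi a ha, orbit_step2 i hi a ha]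
  suffices H : ∀ l : List ℕ, (∀ i ∈ l, i < 11) →
      rep ((l.map fun i => if v.testBit i then tt i else 1).prod) (pt (oPt o a)) =
        pt (oPt o (a ^^^ (l.map fun i => if v.testBit i then oC o i else 0).foldr (· ^^^ ·) 0)) by
    have h := H (List.range 11) fun i hi => List.mem_range.1 hi
    rw [φ_eq, h, ← oV, val_pt]
    refine (oPt_lt o ho _ (Nat.xor_lt_two_pow (n := 5) ha (foldr_lt 5 _ fun x hx => ?_))).1
    obtain ⟨i, hi, rfl⟩ := List.mem_map.1 hx
    split
    · exact oC_lt o ho i (List.mem_range.1 hi)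
    · norm_num
  intro l
  induction l with
  | nil => intro _; simp
  | cons i l ih =>
    intro hl
    have hl' : ∀ j ∈ l, j < 11 := fun j hj => hl j (List.mem_cons_of_mem _ hj)
    have hX : (l.map fun j => if v.testBit j then oC o j else 0).foldr (· ^^^ ·) 0 < 2 ^ 5 :=
      foldr_lt 5 _ fun x hx => by
        obtain ⟨j, hj, rfl⟩ := List.mem_map.1 hx
        split
        · exact oC_lt o ho j (hl' j hj)
        · norm_num
    simp only [List.map_cons, List.prod_cons, map_mul, Equiv.Perm.mul_apply, ih hl', List.foldr_cons]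
    split
    · rw [step i (hl i List.mem_cons_self) _ (Nat.xor_lt_two_pow (n := 5) ha hX), Nat.xor_assoc,
        Nat.xor_comm _ (oC o i)]
    · simp

theorem φ_injective {a b : ℕ} (ha : a < 2048) (hb : b < 2048) (h : φ a = φ b) : a = b := by
  have h1 : φ (a ^^^ b) = 1 := by rw [φ_xor, h, φ_mul_self]
  have hlt : a ^^^ b < 2048 := Nat.xor_lt_two_pow (n := 11) ha hb
  have key : ∀ o < 3, oV o (a ^^^ b) = 0 := by
    intro o ho
    have h2 := rep_φ o ho (a ^^^ b) 0 (by norm_num)
    rw [h1, map_one, Equiv.Perm.one_apply, val_pt (oPt_lt o ho 0 (by norm_num)).1, Nat.zero_xor] at h2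
    refine (oPt_lt o ho _ ?_).2 h2.symm
    refine foldr_lt 5 _ fun x hx => ?_
    obtain ⟨i, hi, rfl⟩ := List.mem_map.1 hx
    split
    · exact oC_lt o ho i (List.mem_range.1 hi)
    · norm_num
  have h0 := oV_injective _ hlt (key 0 (by norm_num)) (key 1 (by norm_num)) (key 2 (by norm_num))
  exact Nat.eq_of_testBit_eq fun i => by
    have := congrArg (fun n => Nat.testBit n i) h0
    simpa [Nat.testBit_xor] using this

theorem φ_cl (i : ℕ) (hi : i < 23) : T (pt (clPts.getD i 0)) = φ (clVec.getD i 0) := by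
  have h := eq_one_of_chkId (L := wT (clPaths.getD i []) ++ (eWord (clVec.getD i 0)).reverse) (fun y hy => by
    rcases List.mem_append.1 hy with h | h
    · exact wT_lt (path_lt i hi) y h
    · exact eWord_lt _ y (List.mem_reverse.1 h)) (clVec_ok i hi).2
  rw [wprod_append, wprod_reverse gen gen_mul_self, mul_inv_eq_one] at h
  rw [T_cl i hi, h, φ]

theorem act_x (k : ℕ) (hk : k < 7) : Act (xx k) (mGen.getD k []) := by
  intro i hi
  obtain ⟨h1, h2⟩ := x_norm k hk i hi
  have hmem : F23.table.follow (xWords.getD k []).reverse (tbPt i) ∈ clPts := List.idxOf_lt_length_iff.1 h1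
  rw [tt_eq i hi, conj_T, ← h2, ← φ_cl _ h1]
  congr 1
  have hlt : tbPt i < F23.table.n := (clPts_ok _ (bIdx_lt i hi)).1
  have e : (rep (xx k) (pt (tbPt i)) : ℕ) = F23.table.follow (xWords.getD k []).reverse (tbPt i) := by
    rw [xx, rep_wprod_reverse _ (x_lt k hk), val_pt hlt]
  rw [← pt_val (rep _ _), e, List.getD_eq_getElem clPts 0 (List.idxOf_lt_length_iff.2 hmem),
    List.getElem_idxOf]

/-- The element of the Sylow subgroup modulo the 2^11 with number `w`. -/
noncomputable def xe (w : ℕ) : Fi23 := wprod gen (xw w)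

theorem xe_eq (w : ℕ) : xe w = ((bits w).map xx).prod := by
  rw [xe, xw, wprod_flatten, List.map_map]
  rfl

theorem act_xe (w : ℕ) (hw : w < 128) : Act (xe w) (ms w) := by
  rw [ms_eq w hw, xe_eq]
  suffices H : ∀ (l : List ℕ) (g : Fi23) (M : List ℕ), (∀ k ∈ l, k < 7) → Act g M →
      Act (g * (l.map xx).prod) (l.foldl (fun M k => mm M (mGen.getD k [])) M) by
    have := H (bits w) 1 one (fun k hk => List.mem_range.1 (List.mem_filter.1 hk).1) act_one
    rwa [one_mul] at this
  intro l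
  induction l with
  | nil => intro g M _ h; simpa using h
  | cons k l ih =>
    intro g M hl h
    rw [List.map_cons, List.prod_cons, ← mul_assoc, List.foldl_cons]
    exact ih _ _ (fun j hj => hl j (List.mem_cons_of_mem _ hj)) (h.mul (act_x k (hl k List.mem_cons_self)))

theorem Act.eq_ms {g : Fi23} {m : List ℕ} {w : ℕ} (hw : w < 128) (h1 : Act g (ms w)) (h2 : Act g m)
    (hl : m.length = 11) (hm : ∀ i < 11, m.getD i 0 < 2048) : m = ms w := by
  refine List.ext_getElem (hl.trans (ms_length w hw).symm) fun i hi hi' => ?_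
  rw [← List.getD_eq_getElem m 0 hi, ← List.getD_eq_getElem (ms w) 0 hi']
  exact φ_injective (hm i (hl ▸ hi)) (ms_bound w hw i (hl ▸ hi))
    ((h2 i (hl ▸ hi)).symm.trans (h1 i (hl ▸ hi)))

theorem ms_injective {u w : ℕ} (hu : u < 128) (hw : w < 128) (h : ms u = ms w) : u = w := by
  have hlen : msData.length = 128 := by decide +kernel
  rw [ms, ms, List.getD_eq_getElem _ _ (by omega), List.getD_eq_getElem _ _ (by omega)] at h
  exact (msData_nodup.getElem_inj_iff).1 h

/-- The chain of subgroups from the 2^11 to the Sylow subgroup. -/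
noncomputable def K (k : ℕ) : Subgroup Fi23 :=
  Subgroup.closure (Set.range φ ∪ xx '' Set.Iio k)

theorem φ_mem (k v : ℕ) : φ v ∈ K k := Subgroup.subset_closure (Or.inl ⟨v, rfl⟩)

theorem xe_mem {k w : ℕ} (hw : w < 2 ^ k) : xe w ∈ K k := by
  rw [xe_eq]
  refine Subgroup.list_prod_mem _ fun y hy => ?_
  obtain ⟨i, hi, rfl⟩ := List.mem_map.1 hy
  refine Subgroup.subset_closure (Or.inr ⟨i, ?_, rfl⟩)
  by_contra hge
  have h := (List.mem_filter.1 hi).2
  rw [Nat.testBit_lt_two_pow (hw.trans_le (Nat.pow_le_pow_right (by norm_num) (not_lt.1 hge)))] at h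
  simp at h

theorem ap_lt (m : List ℕ) (hm : ∀ i < 11, m.getD i 0 < 2048) (v : ℕ) : ap m v < 2048 := by
  refine foldr_lt 11 _ fun x hx => ?_
  obtain ⟨i, hi, rfl⟩ := List.mem_map.1 hx
  split
  · exact hm i (List.mem_range.1 hi)
  · norm_num

theorem φ_mod (v : ℕ) : φ (v % 2048) = φ v := by
  rw [φ_eq, φ_eq]
  congr 1
  refine List.map_congr_left fun i hi => ?_
  rw [show (2048 : ℕ) = 2 ^ 11 from rfl, Nat.testBit_mod_two_pow]
  simp [List.mem_range.1 hi]

theorem rel_eq (k : ℕ) (hk : k < 7) (j : ℕ) (hj : j ≤ k) :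
    (if j = k then xx k * xx k else xx k * xx j * (xx k)⁻¹) ∈ K k := by
  obtain ⟨h1, h2⟩ := rel_data_lt k hk j hj
  have hw : ((relData.getD k []).getD j (0, 0)).2 < 128 :=
    h2.trans_le (Nat.pow_le_pow_right (by norm_num) (by omega : k ≤ 7))
  have hxwlt : ∀ y ∈ xw ((relData.getD k []).getD j (0, 0)).2, y < 10 := by
    intro y hy
    simp only [xw, List.mem_flatten, List.mem_map] at hy
    obtain ⟨L, ⟨i, hi, rfl⟩, hy⟩ := hy
    exact x_lt i (List.mem_range.1 (List.mem_filter.1 hi).1) y hy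
  have h := eq_one_of_chkId (L := relWordOf k j) (fun y hy => by
    rcases List.mem_append.1 hy with h | h
    · rcases List.mem_append.1 h with h | h
      · split at h <;> simp only [List.mem_append, List.mem_reverse] at h
        · rcases h with h | h <;> exact x_lt k hk y h
        · rcases h with (h | h) | h
          · exact x_lt k hk y h
          · exact x_lt j (by omega) y h
          · exact x_lt k hk y h
      · exact hxwlt y (List.mem_reverse.1 h)
    · exact eWord_lt _ y (List.mem_reverse.1 h)) (rel_ok k hk j hj)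
  rw [relWordOf, wprod_append, wprod_append, wprod_reverse gen gen_mul_self, wprod_reverse gen gen_mul_self,
    mul_inv_eq_one, mul_inv_eq_iff_eq_mul] at h
  have hmem : φ ((relData.getD k []).getD j (0, 0)).1 * xe ((relData.getD k []).getD j (0, 0)).2 ∈ K k :=
    mul_mem (φ_mem k _) (xe_mem h2)
  rw [show φ ((relData.getD k []).getD j (0, 0)).1 * xe ((relData.getD k []).getD j (0, 0)).2 =
    wprod gen (eWord ((relData.getD k []).getD j (0, 0)).1) *
      wprod gen (xw ((relData.getD k []).getD j (0, 0)).2) from rfl, ← h] at hmem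
  split at hmem
  · rename_i e
    rw [if_pos e]
    rwa [wprod_append] at hmem
  · rename_i e
    rw [if_neg e]
    rwa [wprod_append, wprod_append, wprod_reverse gen gen_mul_self] at hmem

theorem conj_mem (k : ℕ) (hk : k < 7) {g : Fi23} (hg : g ∈ K k) : xx k * g * (xx k)⁻¹ ∈ K k := by
  induction hg using Subgroup.closure_induction with
  | mem a ha =>
    rcases ha with ⟨v, rfl⟩ | ⟨j, hj, rfl⟩
    · rw [(act_x k hk).conj v]; exact φ_mem k _
    · have h := rel_eq k hk j (le_of_lt hj)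
      rwa [if_neg (ne_of_lt hj)] at h
  | one => simp
  | mul a b _ _ ha hb =>
    rw [show xx k * (a * b) * (xx k)⁻¹ = (xx k * a * (xx k)⁻¹) * (xx k * b * (xx k)⁻¹) by simp [mul_assoc]]
    exact mul_mem ha hb
  | inv a _ ha =>
    rw [show xx k * a⁻¹ * (xx k)⁻¹ = (xx k * a * (xx k)⁻¹)⁻¹ by simp [mul_assoc]]
    exact inv_mem ha

/-- A union of two cosets. -/
theorem mem_succ (k : ℕ) (hk : k < 7) {g : Fi23} :
    g ∈ K (k + 1) → g ∈ K k ∨ g * (xx k)⁻¹ ∈ K k := by
  have hsq : xx k * xx k ∈ K k := by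
    have h := rel_eq k hk k le_rfl
    rwa [if_pos rfl] at h
  have hcj : ∀ a ∈ K k, xx k * a * (xx k)⁻¹ ∈ K k := fun a ha => conj_mem k hk ha
  intro hg
  induction hg using Subgroup.closure_induction with
  | mem a ha =>
    rcases ha with ⟨v, rfl⟩ | ⟨j, hj, rfl⟩
    · exact Or.inl (φ_mem k v)
    · rcases Nat.lt_succ_iff_lt_or_eq.1 hj with h | h
      · exact Or.inl (Subgroup.subset_closure (Or.inr ⟨j, h, rfl⟩))
      · subst h; exact Or.inr (by simp)
  | one => exact Or.inl (one_mem _)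
  | mul a b _ _ ha hb =>
    rcases ha with ha | ha <;> rcases hb with hb | hb
    · exact Or.inl (mul_mem ha hb)
    · exact Or.inr (by rw [mul_assoc]; exact mul_mem ha hb)
    · refine Or.inr ?_
      rw [show a * b * (xx k)⁻¹ = a * (xx k)⁻¹ * (xx k * b * (xx k)⁻¹) by simp [mul_assoc]]
      exact mul_mem ha (hcj b hb)
    · refine Or.inl ?_
      rw [show a * b = a * (xx k)⁻¹ * (xx k * (b * (xx k)⁻¹) * (xx k)⁻¹) * (xx k * xx k) by simp [mul_assoc]]
      exact mul_mem (mul_mem ha (hcj _ hb)) hsq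
  | inv a _ ha =>
    rcases ha with ha | ha
    · exact Or.inl (inv_mem ha)
    · refine Or.inr ?_
      rw [show a⁻¹ * (xx k)⁻¹ = (xx k * xx k)⁻¹ * (xx k * (a * (xx k)⁻¹)⁻¹ * (xx k)⁻¹) by
        simp [mul_assoc]]
      exact mul_mem (inv_mem hsq) (hcj _ (inv_mem ha))

theorem exists_normal_form : ∀ k ≤ 7, ∀ g ∈ K k, ∃ v < 2048, ∃ w < 2 ^ k, g = φ v * xe w := by
  have hxe0 : xe 0 = 1 := by rw [xe_eq]; simp [bits]
  intro k
  induction k with
  | zero =>
    intro _ g hg
    induction hg using Subgroup.closure_induction with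
    | mem a ha =>
      rcases ha with ⟨v, rfl⟩ | ⟨j, hj, rfl⟩
      · exact ⟨v % 2048, Nat.mod_lt _ (by norm_num), 0, by norm_num, by rw [φ_mod, hxe0, mul_one]⟩
      · exact absurd hj (Nat.not_lt_zero j)
    | one => exact ⟨0, by norm_num, 0, by norm_num, by rw [φ_zero, hxe0, mul_one]⟩
    | mul a b _ _ ha hb =>
      obtain ⟨v, hv, w, hw, rfl⟩ := ha
      obtain ⟨v', hv', w', hw', rfl⟩ := hb
      obtain rfl : w = 0 := by simpa using hw
      obtain rfl : w' = 0 := by simpa using hw'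
      exact ⟨v ^^^ v', Nat.xor_lt_two_pow (n := 11) hv hv', 0, by norm_num, by simp [hxe0, φ_xor]⟩
    | inv a _ ha =>
      obtain ⟨v, hv, w, hw, rfl⟩ := ha
      obtain rfl : w = 0 := by simpa using hw
      exact ⟨v, hv, 0, by norm_num, by simp [hxe0, φ_inv]⟩
  | succ k ih =>
    intro hk g hg
    rcases mem_succ k (by omega) hg with h | h
    · obtain ⟨v, hv, w, hw, e⟩ := ih (by omega) g h
      exact ⟨v, hv, w, hw.trans_le (Nat.pow_le_pow_right (by norm_num) (by omega)), e⟩
    · obtain ⟨v, hv, w, hw, e⟩ := ih (by omega) _ h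
      refine ⟨v, hv, w + 2 ^ k, by rw [pow_succ]; omega, ?_⟩
      have hw7 : w < 128 := hw.trans_le (Nat.pow_le_pow_right (by norm_num) (by omega : k ≤ 7))
      rw [xe_eq, bits_add k (by omega) w hw7 hw, List.map_append, List.prod_append, ← xe_eq, ← mul_assoc, ← e]
      simp

theorem act_normal_form (v w : ℕ) (hw : w < 128) : Act (φ v * xe w) (ms w) := by
  intro i hi
  rw [show φ v * xe w * tt i * (φ v * xe w)⁻¹ = φ v * (xe w * tt i * (xe w)⁻¹) * (φ v)⁻¹ by
    simp [mul_assoc], act_xe w hw i hi, ← φ_xor, Nat.xor_comm, φ_xor, mul_inv_cancel_right]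

theorem normal_form_inj {v v' w w' : ℕ} (hv : v < 2048) (hv' : v' < 2048) (hw : w < 128) (hw' : w' < 128)
    (h : φ v * xe w = φ v' * xe w') : v = v' ∧ w = w' := by
  have e := (act_normal_form v w hw).eq_ms hw (h ▸ act_normal_form v' w' hw') (ms_length w' hw')
    (ms_bound w' hw')
  have := ms_injective hw' hw e
  subst this
  exact ⟨φ_injective hv hv' (mul_right_cancel h), rfl⟩

theorem card_K : Nat.card (K 7) = 2 ^ 18 := by
  let f : Fin 2048 × Fin 128 → K 7 := fun p =>
    ⟨φ p.1 * xe p.2, mul_mem (φ_mem 7 _) (xe_mem p.2.2)⟩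
  have hf : Function.Bijective f := by
    refine ⟨fun p q h => ?_, fun g => ?_⟩
    · obtain ⟨h1, h2⟩ := normal_form_inj p.1.2 q.1.2 p.2.2 q.2.2 (congrArg Subtype.val h)
      exact Prod.ext (Fin.ext h1) (Fin.ext h2)
    · obtain ⟨v, hv, w, hw, e⟩ := exists_normal_form 7 le_rfl g g.2
      exact ⟨(⟨v, hv⟩, ⟨w, hw⟩), Subtype.ext e.symm⟩
  rw [← Nat.card_congr (Equiv.ofBijective f hf)]
  simp

/-- The elementary abelian subgroup of order 2^11. -/
noncomputable def E : Subgroup Fi23 := K 0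

theorem mem_E {g : Fi23} : g ∈ E ↔ ∃ v < 2048, g = φ v := by
  constructor
  · intro hg
    obtain ⟨v, hv, w, hw, e⟩ := exists_normal_form 0 (by norm_num) g hg
    obtain rfl : w = 0 := by simpa using hw
    exact ⟨v, hv, by rw [e, xe_eq]; simp [bits]⟩
  · rintro ⟨v, -, rfl⟩; exact φ_mem 0 v

theorem card_E : Nat.card E = 2 ^ 11 := by
  let f : Fin 2048 → E := fun p => ⟨φ p, φ_mem 0 _⟩
  have hf : Function.Bijective f := by
    refine ⟨fun p q h => Fin.ext (φ_injective p.2 q.2 (congrArg Subtype.val h)), fun g => ?_⟩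
    obtain ⟨v, hv, e⟩ := mem_E.1 g.2
    exact ⟨⟨v, hv⟩, Subtype.ext e.symm⟩
  rw [← Nat.card_congr (Equiv.ofBijective f hf)]
  simp

theorem E_le : E ≤ K 7 := by
  intro g hg
  obtain ⟨v, -, rfl⟩ := mem_E.1 hg
  exact φ_mem 7 v

theorem E_elementary : Cfsg.IsElementaryAbelian 2 E := by
  refine ⟨⟨⟨fun a b => Subtype.ext ?_⟩⟩, fun a ha => ?_⟩
  · obtain ⟨v, -, hv⟩ := mem_E.1 a.2
    obtain ⟨w, -, hw⟩ := mem_E.1 b.2
    show (a : Fi23) * b = b * a
    rw [hv, hw, ← φ_xor, Nat.xor_comm, φ_xor]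
  · obtain ⟨v, -, rfl⟩ := mem_E.1 ha
    rw [pow_two, φ_mul_self]

theorem conj_E {g : Fi23} (hg : g ∈ K 7) {e : Fi23} (he : e ∈ E) : g * e * g⁻¹ ∈ E := by
  obtain ⟨v, -, rfl⟩ := mem_E.1 he
  obtain ⟨a, -, w, hw, rfl⟩ := exists_normal_form 7 le_rfl g hg
  rw [(act_normal_form a w hw).conj v]
  exact φ_mem 0 _

/-- An elementary abelian subgroup of the Sylow subgroup is the 2^11 or has order at most 2^10 or
lies in the 2^11. -/
theorem le_or_card_le (A : Subgroup Fi23) (hA : A ≤ K 7) (hel : Cfsg.IsElementaryAbelian 2 A) :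
    A ≤ E ∨ Nat.card A ≤ 1024 := by
  classical
  obtain ⟨hcomm, hsq⟩ := hel
  let W : Finset ℕ := (Finset.range 128).filter fun w => ∃ v < 2048, φ v * xe w ∈ A
  have hW' : ∀ {w}, w ∈ W ↔ w < 128 ∧ ∃ v < 2048, φ v * xe w ∈ A := by
    intro w; simp [W]
  have hmulA : ∀ a ∈ A, ∀ b ∈ A, a * b = b * a := fun a ha b hb =>
    congrArg Subtype.val (hcomm.1.1 ⟨a, ha⟩ ⟨b, hb⟩)
  have hprod : ∀ {u v a b : ℕ}, u < 128 → v < 128 → φ a * xe u ∈ A → φ b * xe v ∈ A →
      ∃ w, w ∈ W ∧ mm (ms u) (ms v) = ms w ∧ Act (φ a * xe u * (φ b * xe v)) (ms w) := by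
    intro u v a b hu hv ha hb
    obtain ⟨c, hc, w, hw, e⟩ := exists_normal_form 7 le_rfl _ (hA (mul_mem ha hb))
    have h1 : Act (φ a * xe u * (φ b * xe v)) (ms w) := e ▸ act_normal_form c w hw
    refine ⟨w, hW'.2 ⟨hw, c, hc, e ▸ mul_mem ha hb⟩, ?_, h1⟩
    refine h1.eq_ms hw ((act_normal_form a u hu).mul (act_normal_form b v hv)) (by simp [mm]) fun i hi => ?_
    rw [mm, getD_map_range _ hi]
    exact ap_lt _ (ms_bound u hu) _
  have hzero : (0 : ℕ) ∈ W := by
    refine hW'.2 ⟨by norm_num, 0, by norm_num, ?_⟩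
    rw [φ_zero, xe_eq]; simp [bits]
  have hWel : Elem W := by
    refine ⟨fun u hu => (hW'.1 hu).1, hzero, fun u hu v hv => ?_, fun u hu => ?_, fun u hu v hv => ?_⟩
    · obtain ⟨hu', a, -, ha⟩ := hW'.1 hu
      obtain ⟨hv', b, -, hb⟩ := hW'.1 hv
      obtain ⟨w, hw, e1, h1⟩ := hprod hu' hv' ha hb
      obtain ⟨w', hw', e2, h2⟩ := hprod hv' hu' hb ha
      rw [hmulA _ hb _ ha] at h2
      rw [e1, e2]
      exact (h2.eq_ms (hW'.1 hw').1 h1 (ms_length w (hW'.1 hw).1) (ms_bound w (hW'.1 hw).1))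
    · obtain ⟨hu', a, -, ha⟩ := hW'.1 hu
      obtain ⟨w, hw, e1, h1⟩ := hprod hu' hu' ha ha
      have hone : φ a * xe u * (φ a * xe u) = 1 := by rw [← pow_two]; exact hsq _ ha
      rw [hone] at h1
      have h10 : Act (1 : Fi23) (ms 0) := ms_zero ▸ act_one
      rw [e1, h10.eq_ms (by norm_num) h1 (ms_length w (hW'.1 hw).1) (ms_bound w (hW'.1 hw).1), ms_zero]
    · obtain ⟨hu', a, -, ha⟩ := hW'.1 hu
      obtain ⟨hv', b, -, hb⟩ := hW'.1 hv
      obtain ⟨w, hw, e1, -⟩ := hprod hu' hv' ha hb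
      have hlen : msData.length = 128 := by decide +kernel
      have hop : op u v = w := by
        have hw2 : w < msData.length := hlen ▸ (hW'.1 hw).1
        rw [op, e1, ms, List.getD_eq_getElem _ _ hw2, msData_nodup.idxOf_getElem]
      rw [hop]; exact hw
  by_cases hW0 : W = {0}
  · left
    intro g hg
    obtain ⟨v, hv, w, hw, rfl⟩ := exists_normal_form 7 le_rfl g (hA hg)
    have hw' : w ∈ W := hW'.2 ⟨hw, v, hv, hg⟩
    rw [hW0, Finset.mem_singleton] at hw'
    subst hw'
    rw [xe_eq]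
    simpa [bits, E] using φ_mem 0 v
  right
  let F : Finset ℕ := (Finset.range 2048).filter fun v => φ v ∈ A
  have hF : ∀ v ∈ F, v < 2048 ∧ ∀ u ∈ W, ap (ms u) v = v := by
    intro v hv
    simp only [F, Finset.mem_filter, Finset.mem_range] at hv
    refine ⟨hv.1, fun u hu => ?_⟩
    obtain ⟨hu', a, -, ha⟩ := hW'.1 hu
    refine φ_injective (ap_lt _ (ms_bound u hu') v) hv.1 ?_
    rw [← (act_normal_form a u hu').conj v, hmulA _ ha _ hv.2, mul_inv_cancel_right]
  refine le_trans ?_ (hWel.bound hW0 F hF)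
  have hdec : ∀ a : A, ∃ p : ℕ × ℕ, p.1 < 2048 ∧ p.2 < 128 ∧ (a : Fi23) = φ p.1 * xe p.2 := by
    intro a
    obtain ⟨v, hv, w, hw, e⟩ := exists_normal_form 7 le_rfl _ (hA a.2)
    exact ⟨(v, w), hv, hw, e⟩
  choose d hd1 hd2 hd3 using hdec
  have hrep : ∀ w, ∃ v, w ∈ W → v < 2048 ∧ φ v * xe w ∈ A := by
    intro w
    by_cases h : w ∈ W
    · obtain ⟨-, v, hv, hm⟩ := hW'.1 h
      exact ⟨v, fun _ => ⟨hv, hm⟩⟩
    · exact ⟨0, fun h' => absurd h' h⟩
  choose r hr using hrep
  have hw : ∀ a, (d a).2 ∈ W := fun a => hW'.2 ⟨hd2 a, (d a).1, hd1 a, hd3 a ▸ a.2⟩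
  have hfF : ∀ a, (d a).1 ^^^ r (d a).2 ∈ F := by
    intro a
    obtain ⟨hr1, hr2⟩ := hr _ (hw a)
    simp only [F, Finset.mem_filter, Finset.mem_range]
    refine ⟨Nat.xor_lt_two_pow (n := 11) (hd1 a) hr1, ?_⟩
    have := mul_mem a.2 (inv_mem hr2)
    rw [hd3 a, mul_inv_rev, φ_inv, show φ (d a).1 * xe (d a).2 * ((xe (d a).2)⁻¹ * φ (r (d a).2)) =
      φ (d a).1 * φ (r (d a).2) by simp [mul_assoc], ← φ_xor] at this
    exact this
  let f : A → ↥W × ↥F := fun a => (⟨_, hw a⟩, ⟨_, hfF a⟩)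
  have hf : Function.Injective f := by
    intro a b h
    have h1 : (d a).2 = (d b).2 := congrArg (fun p : ↥W × ↥F => (p.1 : ℕ)) h
    have h2 : (d a).1 ^^^ r (d a).2 = (d b).1 ^^^ r (d b).2 := congrArg (fun p : ↥W × ↥F => (p.2 : ℕ)) h
    rw [h1, Nat.xor_left_inj] at h2
    exact Subtype.ext (by rw [hd3 a, hd3 b, h1, h2])
  refine (Nat.card_le_card_of_injective f hf).trans (le_of_eq ?_)
  rw [Nat.card_prod, Nat.card_eq_finsetCard, Nat.card_eq_finsetCard]

theorem factorization_card : (Nat.card Fi23).factorization 2 = 18 := by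
  rw [SporFi23.card_eq.1, Nat.factorization_def _ Nat.prime_two,
    show (4089470473293004800 : ℕ) = 2 ^ 18 * 15600091832325 by norm_num]
  haveI := Fact.mk Nat.prime_two
  rw [padicValNat.mul (by norm_num) (by norm_num), padicValNat.prime_pow,
    padicValNat.eq_zero_of_not_dvd (by norm_num)]

/-- Every Sylow 2-subgroup has exactly one normal elementary abelian subgroup of order 2^11 and none
larger. -/
theorem sylow_main (S : Sylow 2 Fi23) :
    (∀ A : Subgroup Fi23, A ≤ S → (A.subgroupOf S).Normal → Cfsg.IsElementaryAbelian 2 A →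
        Nat.card A ≤ 2 ^ 11) ∧
      ∃! A : Subgroup Fi23, A ≤ S ∧ (A.subgroupOf S).Normal ∧ Cfsg.IsElementaryAbelian 2 A ∧
        Nat.card A = 2 ^ 11 := by
  haveI := SporFi23.finite
  haveI := Fact.mk Nat.prime_two
  let S₀ : Sylow 2 Fi23 := Sylow.ofCard (K 7) (by rw [card_K, factorization_card])
  obtain ⟨g, hg⟩ := MulAction.exists_smul_eq Fi23 S₀ S
  let c := (MulAut.conj g).toMonoidHom
  have hS : (S : Subgroup Fi23) = (K 7).map c := by rw [← hg]; rfl
  have back : ∀ A : Subgroup Fi23, A ≤ S → Cfsg.IsElementaryAbelian 2 A →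
      A ≤ E.map c ∨ Nat.card A ≤ 1024 := by
    intro A hA hel
    have e : (A.comap c).map c = A := by
      refine Subgroup.map_comap_eq_self_of_surjective ?_ A
      exact (MulAut.conj g).surjective
    have hle : A.comap c ≤ K 7 := by
      intro x hx
      have : c x ∈ (S : Subgroup Fi23) := hA hx
      rw [hS, Subgroup.mem_map] at this
      obtain ⟨y, hy, hyx⟩ := this
      rwa [← (MulAut.conj g).injective hyx]
    have hel' : Cfsg.IsElementaryAbelian 2 (A.comap c) := by
      refine ⟨⟨⟨fun a b => Subtype.ext ((MulAut.conj g).injective ?_)⟩⟩, fun a ha =>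
        (MulAut.conj g).injective ?_⟩
      · show c ((a : Fi23) * b) = c ((b : Fi23) * a)
        rw [map_mul, map_mul]
        exact congrArg Subtype.val (hel.1.1.1 ⟨c a, a.2⟩ ⟨c b, b.2⟩)
      · rw [map_pow, map_one]; exact hel.2 _ ha
    rcases le_or_card_le _ hle hel' with h | h
    · left; rw [← e]; exact Subgroup.map_mono h
    · right
      rw [← e, Subgroup.card_map_of_injective (f := c) (MulAut.conj g).injective]
      exact h
  have hcard : Nat.card (E.map c) = 2 ^ 11 := by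
    rw [Subgroup.card_map_of_injective (f := c) (MulAut.conj g).injective, card_E]
  refine ⟨fun A hA _ hel => ?_, E.map c, ⟨?_, ⟨fun x hx y => ?_⟩, ⟨⟨⟨fun a b => Subtype.ext ?_⟩⟩, ?_⟩, hcard⟩, ?_⟩
  · rcases back A hA hel with h | h
    · exact (Subgroup.card_le_of_le h).trans hcard.le
    · exact h.trans (by norm_num)
  · rw [hS]; exact Subgroup.map_mono E_le
  · obtain ⟨e, he, hex⟩ := Subgroup.mem_map.1 (Subgroup.mem_subgroupOf.1 hx)
    have hy : (y : Fi23) ∈ (K 7).map c := hS ▸ y.2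
    obtain ⟨k, hk, hky⟩ := Subgroup.mem_map.1 hy
    refine Subgroup.mem_subgroupOf.2 (Subgroup.mem_map.2 ⟨k * e * k⁻¹, conj_E hk he, ?_⟩)
    rw [map_mul, map_mul, map_inv, hex, hky]
    rfl
  · obtain ⟨a', ha', ea⟩ := Subgroup.mem_map.1 a.2
    obtain ⟨b', hb', eb⟩ := Subgroup.mem_map.1 b.2
    show (a : Fi23) * b = b * a
    rw [← ea, ← eb, ← map_mul, ← map_mul]
    exact congrArg c (congrArg Subtype.val (E_elementary.1.1.1 ⟨a', ha'⟩ ⟨b', hb'⟩))
  · rintro a ⟨a', ha', rfl⟩
    rw [← map_pow, E_elementary.2 a' ha', map_one]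
  · rintro A ⟨hA, -, hel, hA11⟩
    rcases back A hA hel with h | h
    · exact Subgroup.eq_of_le_of_card_ge h (by rw [hcard, hA11])
    · rw [hA11] at h; norm_num at h

end CfsgLib.KnownC.Fi23Two
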